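import Cfsg.Agent.Spor.ThS3.D0

set_option autoImplicit false
set_option maxRecDepth 100000000
set_option Elab.async false

namespace Cfsg.Agent.Spor.ThS3

theorem pr2 : Nat.beq (PA.prod ThV.A [ThV.gu, ThV.gd, ThV.iu, ThV.is, ThV.ge, ThV.is, ThV.gt, ThV.gd, ThV.ge, ThV.is, ThV.ge] ThV.A.one) m1 = true := by decide +kernel

theorem pr5 : Nat.beq (PA.prod ThV.A [ThV.gu, ThV.gb, ThV.ga, ThV.iu, ThV.gb, ThV.gu] ThV.A.one) m4 = true := by decide +kernel

theorem iv8 : band (PA.can ThV.A m7) (Nat.beq (PA.mul ThV.A m4 m7) ThV.A.one) = true := by decide +kernel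

theorem pr11 : Nat.beq (PA.prod ThV.A [m7, m1, m4] ThV.A.one) m10 = true := by decide +kernel

theorem pr14 : Nat.beq (PA.prod ThV.A [ThV.ge, ThV.gd] ThV.A.one) m13 = true := by decide +kernel

theorem pr17 : Nat.beq (PA.prod ThV.A [ThV.gb, ThV.ga] ThV.A.one) m16 = true := by decide +kernel

theorem pr20 : Nat.beq (PA.prod ThV.A [ThV.gd, ThV.iu, ThV.gd, ThV.gu] ThV.A.one) m19 = true := by decide +kernel

theorem pr23 : Nat.beq (PA.prod ThV.A [ThV.gu, ThV.gd, ThV.iu, ThV.gb, ThV.gu, ThV.gd, ThV.iu, ThV.gb] ThV.A.one) m22 = true := by decide +kernel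

theorem iv26 : band (PA.can ThV.A m25) (Nat.beq (PA.mul ThV.A m19 m25) ThV.A.one) = true := by decide +kernel

theorem iv29 : band (PA.can ThV.A m28) (Nat.beq (PA.mul ThV.A m22 m28) ThV.A.one) = true := by decide +kernel

theorem pr32 : Nat.beq (PA.prod ThV.A [m19, m22, m25, m28] ThV.A.one) m31 = true := by decide +kernel

theorem iv35 : band (PA.can ThV.A m34) (Nat.beq (PA.mul ThV.A m16 m34) ThV.A.one) = true := by decide +kernel

theorem pr38 : Nat.beq (PA.prod ThV.A [m34, m19, m16, m25] ThV.A.one) m37 = true := by decide +kernel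

theorem iv41 : band (PA.can ThV.A m40) (Nat.beq (PA.mul ThV.A m10 m40) ThV.A.one) = true := by decide +kernel

theorem pr44 : Nat.beq (PA.prod ThV.A [m40, m19, m10, m25] ThV.A.one) m43 = true := by decide +kernel

theorem pr47 : Nat.beq (PA.prod ThV.A [m1, m19, m16] ThV.A.one) m46 = true := by decide +kernel

theorem T3ok : PA.gensOk ThV.A T3 10 = true := by decide +kernel

theorem pp55 : PA.pcP ThV.A T3 0 3 [] = true := by decide +kernel

theorem pb57 : PA.pcB' ThV.A T3 m56 ThV.A_one 0 = true := by decide +kernel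

theorem pc58 : PA.pcC ThV.A T3 1 0 [0] = true := by decide +kernel

theorem pp59 : PA.pcP ThV.A T3 1 3 [] = true := by decide +kernel

theorem pb61 : PA.pcB' ThV.A T3 m60 ThV.A_one 1 = true := by decide +kernel

theorem pb62 : PA.pcB ThV.A T3 m60 ThV.A_one 0 = true := by decide +kernel

theorem pc63 : PA.pcC ThV.A T3 2 0 [0] = true := by decide +kernel

theorem pc64 : PA.pcC ThV.A T3 2 1 [2] = true := by decide +kernel

theorem pp65 : PA.pcP ThV.A T3 2 3 [] = true := by decide +kernel

theorem pb67 : PA.pcB' ThV.A T3 m66 ThV.A_one 2 = true := by decide +kernel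

theorem pb68 : PA.pcB ThV.A T3 m66 ThV.A_one 0 = true := by decide +kernel

theorem pb69 : PA.pcB ThV.A T3 m66 ThV.A_one 1 = true := by decide +kernel

theorem pc70 : PA.pcC ThV.A T3 3 0 [0] = true := by decide +kernel

theorem pc71 : PA.pcC ThV.A T3 3 1 [2] = true := by decide +kernel

theorem pc72 : PA.pcC ThV.A T3 3 2 [4] = true := by decide +kernel

theorem pp73 : PA.pcP ThV.A T3 3 3 [] = true := by decide +kernel

theorem pb75 : PA.pcB' ThV.A T3 m74 ThV.A_one 3 = true := by decide +kernel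

theorem pb76 : PA.pcB ThV.A T3 m74 ThV.A_one 0 = true := by decide +kernel

theorem pb77 : PA.pcB ThV.A T3 m74 ThV.A_one 1 = true := by decide +kernel

theorem pb78 : PA.pcB ThV.A T3 m74 ThV.A_one 2 = true := by decide +kernel

theorem pc79 : PA.pcC ThV.A T3 4 0 [0] = true := by decide +kernel

theorem pc80 : PA.pcC ThV.A T3 4 1 [2] = true := by decide +kernel

theorem pc81 : PA.pcC ThV.A T3 4 2 [4] = true := by decide +kernel

theorem pc82 : PA.pcC ThV.A T3 4 3 [6] = true := by decide +kernel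

theorem pp83 : PA.pcP ThV.A T3 4 3 [] = true := by decide +kernel

theorem pb85 : PA.pcB' ThV.A T3 m84 ThV.A_one 4 = true := by decide +kernel

theorem pb86 : PA.pcB ThV.A T3 m84 ThV.A_one 0 = true := by decide +kernel

theorem pb87 : PA.pcB ThV.A T3 m84 ThV.A_one 1 = true := by decide +kernel

theorem pb88 : PA.pcB ThV.A T3 m84 ThV.A_one 2 = true := by decide +kernel

theorem pb89 : PA.pcB ThV.A T3 m84 ThV.A_one 3 = true := by decide +kernel

theorem pc90 : PA.pcC ThV.A T3 5 0 [0] = true := by decide +kernel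

theorem pc91 : PA.pcC ThV.A T3 5 1 [2] = true := by decide +kernel

theorem pc92 : PA.pcC ThV.A T3 5 2 [4] = true := by decide +kernel

end Cfsg.Agent.Spor.ThS3
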