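import Cfsg.Agent.Spor.ThS3.D0

set_option autoImplicit false
set_option maxRecDepth 100000000
set_option Elab.async false

namespace Cfsg.Agent.Spor.ThS3

theorem pc93 : PA.pcC ThV.A T3 5 3 [1, 6] = true := by decide +kernel

theorem pc94 : PA.pcC ThV.A T3 5 4 [2, 8] = true := by decide +kernel

theorem pp95 : PA.pcP ThV.A T3 5 3 [1] = true := by decide +kernel

theorem pb97 : PA.pcB' ThV.A T3 m96 ThV.A_one 5 = true := by decide +kernel

theorem pb98 : PA.pcB ThV.A T3 m96 ThV.A_one 0 = true := by decide +kernel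

theorem pb99 : PA.pcB ThV.A T3 m96 ThV.A_one 1 = true := by decide +kernel

theorem pb100 : PA.pcB ThV.A T3 m96 ThV.A_one 2 = true := by decide +kernel

theorem pb101 : PA.pcB ThV.A T3 m96 ThV.A_one 3 = true := by decide +kernel

theorem pb102 : PA.pcB ThV.A T3 m96 ThV.A_one 4 = true := by decide +kernel

theorem pc103 : PA.pcC ThV.A T3 6 0 [0] = true := by decide +kernel

theorem pc104 : PA.pcC ThV.A T3 6 1 [2] = true := by decide +kernel

theorem pc105 : PA.pcC ThV.A T3 6 2 [0, 4] = true := by decide +kernel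

theorem pc106 : PA.pcC ThV.A T3 6 3 [1, 3, 6] = true := by decide +kernel

theorem pc107 : PA.pcC ThV.A T3 6 4 [1, 2, 8] = true := by decide +kernel

theorem pc108 : PA.pcC ThV.A T3 6 5 [1, 3, 5, 10] = true := by decide +kernel

theorem pp109 : PA.pcP ThV.A T3 6 3 [0, 3] = true := by decide +kernel

theorem pb111 : PA.pcB' ThV.A T3 m110 ThV.A_one 6 = true := by decide +kernel

theorem pb112 : PA.pcB ThV.A T3 m110 ThV.A_one 0 = true := by decide +kernel

theorem pb113 : PA.pcB ThV.A T3 m110 ThV.A_one 1 = true := by decide +kernel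

theorem pb114 : PA.pcB ThV.A T3 m110 ThV.A_one 2 = true := by decide +kernel

theorem pb115 : PA.pcB ThV.A T3 m110 ThV.A_one 3 = true := by decide +kernel

theorem pb116 : PA.pcB ThV.A T3 m110 ThV.A_one 4 = true := by decide +kernel

theorem pb117 : PA.pcB ThV.A T3 m110 ThV.A_one 5 = true := by decide +kernel

theorem pc118 : PA.pcC ThV.A T3 7 0 [0] = true := by decide +kernel

theorem pc119 : PA.pcC ThV.A T3 7 1 [2] = true := by decide +kernel

theorem pc120 : PA.pcC ThV.A T3 7 2 [2, 4] = true := by decide +kernel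

theorem pc121 : PA.pcC ThV.A T3 7 3 [1, 6] = true := by decide +kernel

theorem pc122 : PA.pcC ThV.A T3 7 4 [0, 3, 8] = true := by decide +kernel

theorem pc123 : PA.pcC ThV.A T3 7 5 [3, 5, 7, 10] = true := by decide +kernel

theorem pc124 : PA.pcC ThV.A T3 7 6 [0, 5, 9, 12] = true := by decide +kernel

theorem pp125 : PA.pcP ThV.A T3 7 3 [] = true := by decide +kernel

theorem pb127 : PA.pcB' ThV.A T3 m126 ThV.A_one 7 = true := by decide +kernel

theorem pb128 : PA.pcB ThV.A T3 m126 ThV.A_one 0 = true := by decide +kernel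

theorem pb129 : PA.pcB ThV.A T3 m126 ThV.A_one 1 = true := by decide +kernel

theorem pb130 : PA.pcB ThV.A T3 m126 ThV.A_one 2 = true := by decide +kernel

theorem pb131 : PA.pcB ThV.A T3 m126 ThV.A_one 3 = true := by decide +kernel

theorem pb132 : PA.pcB ThV.A T3 m126 ThV.A_one 4 = true := by decide +kernel

theorem pb133 : PA.pcB ThV.A T3 m126 ThV.A_one 5 = true := by decide +kernel

theorem pb134 : PA.pcB ThV.A T3 m126 ThV.A_one 6 = true := by decide +kernel

theorem pc135 : PA.pcC ThV.A T3 8 0 [0] = true := by decide +kernel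

theorem pc136 : PA.pcC ThV.A T3 8 1 [2] = true := by decide +kernel

theorem pc137 : PA.pcC ThV.A T3 8 2 [4] = true := by decide +kernel

theorem pc138 : PA.pcC ThV.A T3 8 3 [6] = true := by decide +kernel

theorem pc139 : PA.pcC ThV.A T3 8 4 [0, 8] = true := by decide +kernel

theorem pc140 : PA.pcC ThV.A T3 8 5 [5, 10] = true := by decide +kernel

theorem pc141 : PA.pcC ThV.A T3 8 6 [2, 5, 6, 12] = true := by decide +kernel

theorem pc142 : PA.pcC ThV.A T3 8 7 [1, 3, 5, 9, 14] = true := by decide +kernel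

theorem pp143 : PA.pcP ThV.A T3 8 3 [] = true := by decide +kernel

theorem pb145 : PA.pcB' ThV.A T3 m144 ThV.A_one 8 = true := by decide +kernel

theorem pb146 : PA.pcB ThV.A T3 m144 ThV.A_one 0 = true := by decide +kernel

theorem pb147 : PA.pcB ThV.A T3 m144 ThV.A_one 1 = true := by decide +kernel

theorem pb148 : PA.pcB ThV.A T3 m144 ThV.A_one 2 = true := by decide +kernel

theorem pb149 : PA.pcB ThV.A T3 m144 ThV.A_one 3 = true := by decide +kernel

theorem pb150 : PA.pcB ThV.A T3 m144 ThV.A_one 4 = true := by decide +kernel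

theorem pb151 : PA.pcB ThV.A T3 m144 ThV.A_one 5 = true := by decide +kernel

theorem pb152 : PA.pcB ThV.A T3 m144 ThV.A_one 6 = true := by decide +kernel

theorem pb153 : PA.pcB ThV.A T3 m144 ThV.A_one 7 = true := by decide +kernel

theorem pc154 : PA.pcC ThV.A T3 9 0 [0] = true := by decide +kernel

theorem pc155 : PA.pcC ThV.A T3 9 1 [1, 2] = true := by decide +kernel

end Cfsg.Agent.Spor.ThS3
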