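import Cfsg.Agent.Spor.ThS3.D0

set_option autoImplicit false
set_option maxRecDepth 100000000
set_option Elab.async false

namespace Cfsg.Agent.Spor.ThS3

theorem pc156 : PA.pcC ThV.A T3 9 2 [4] = true := by decide +kernel

theorem pc157 : PA.pcC ThV.A T3 9 3 [5, 6] = true := by decide +kernel

theorem pc158 : PA.pcC ThV.A T3 9 4 [0, 4, 6, 8] = true := by decide +kernel

theorem pc159 : PA.pcC ThV.A T3 9 5 [10] = true := by decide +kernel

theorem pc160 : PA.pcC ThV.A T3 9 6 [1, 3, 4, 6, 10, 12] = true := by decide +kernel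

theorem pc161 : PA.pcC ThV.A T3 9 7 [2, 7, 11, 13, 14] = true := by decide +kernel

theorem pc162 : PA.pcC ThV.A T3 9 8 [1, 16] = true := by decide +kernel

theorem pp163 : PA.pcP ThV.A T3 9 3 [4] = true := by decide +kernel

theorem pb165 : PA.pcB' ThV.A T3 m164 ThV.A_one 9 = true := by decide +kernel

theorem pb166 : PA.pcB ThV.A T3 m164 ThV.A_one 0 = true := by decide +kernel

theorem pb167 : PA.pcB ThV.A T3 m164 ThV.A_one 1 = true := by decide +kernel

theorem pb168 : PA.pcB ThV.A T3 m164 ThV.A_one 2 = true := by decide +kernel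

theorem pb169 : PA.pcB ThV.A T3 m164 ThV.A_one 3 = true := by decide +kernel

theorem pb170 : PA.pcB ThV.A T3 m164 ThV.A_one 4 = true := by decide +kernel

theorem pb171 : PA.pcB ThV.A T3 m164 ThV.A_one 5 = true := by decide +kernel

theorem pb172 : PA.pcB ThV.A T3 m164 ThV.A_one 6 = true := by decide +kernel

theorem pb173 : PA.pcB ThV.A T3 m164 ThV.A_one 7 = true := by decide +kernel

theorem pb174 : PA.pcB ThV.A T3 m164 ThV.A_one 8 = true := by decide +kernel

end Cfsg.Agent.Spor.ThS3
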