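import Cfsg.Agent.Spor.ThV.Main
import Cfsg.Agent.Spor.ThS3.C0
import Cfsg.Agent.Spor.ThS3.C1
import Cfsg.Agent.Spor.ThS3.C2

set_option autoImplicit false
set_option maxRecDepth 100000000
set_option Elab.async false

namespace Cfsg.Agent.Spor.ThS3

theorem hM3 : ThV.X.M m1 := MRep.M.of_prod (L := [ThV.gu, ThV.gd, ThV.iu, ThV.is, ThV.ge, ThV.is, ThV.gt, ThV.gd, ThV.ge, ThV.is, ThV.ge]) (AllP.cons (ThV.gens 14).1 (AllP.cons (ThV.gens 7).1 (AllP.cons (ThV.gens 15).1 (AllP.cons (ThV.gens 11).1 (AllP.cons (ThV.gens 9).1 (AllP.cons (ThV.gens 11).1 (AllP.cons (ThV.gens 12).1 (AllP.cons (ThV.gens 7).1 (AllP.cons (ThV.gens 9).1 (AllP.cons (ThV.gens 11).1 (AllP.cons (ThV.gens 9).1 (AllP.nil)))))))))))) pr2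
theorem hM6 : ThV.X.M m4 := MRep.M.of_prod (L := [ThV.gu, ThV.gb, ThV.ga, ThV.iu, ThV.gb, ThV.gu]) (AllP.cons (ThV.gens 14).1 (AllP.cons (ThV.gens 3).1 (AllP.cons (ThV.gens 1).1 (AllP.cons (ThV.gens 15).1 (AllP.cons (ThV.gens 3).1 (AllP.cons (ThV.gens 14).1 (AllP.nil))))))) pr5
theorem hM9 : ThV.X.M m7 := (MRep.M.inv hM6 iv8).1
theorem hM12 : ThV.X.M m10 := MRep.M.of_prod (L := [m7, m1, m4]) (AllP.cons hM9 (AllP.cons hM3 (AllP.cons hM6 (AllP.nil)))) pr11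
theorem hM15 : ThV.X.M m13 := MRep.M.of_prod (L := [ThV.ge, ThV.gd]) (AllP.cons (ThV.gens 9).1 (AllP.cons (ThV.gens 7).1 (AllP.nil))) pr14
theorem hM18 : ThV.X.M m16 := MRep.M.of_prod (L := [ThV.gb, ThV.ga]) (AllP.cons (ThV.gens 3).1 (AllP.cons (ThV.gens 1).1 (AllP.nil))) pr17
theorem hM21 : ThV.X.M m19 := MRep.M.of_prod (L := [ThV.gd, ThV.iu, ThV.gd, ThV.gu]) (AllP.cons (ThV.gens 7).1 (AllP.cons (ThV.gens 15).1 (AllP.cons (ThV.gens 7).1 (AllP.cons (ThV.gens 14).1 (AllP.nil))))) pr20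
theorem hM24 : ThV.X.M m22 := MRep.M.of_prod (L := [ThV.gu, ThV.gd, ThV.iu, ThV.gb, ThV.gu, ThV.gd, ThV.iu, ThV.gb]) (AllP.cons (ThV.gens 14).1 (AllP.cons (ThV.gens 7).1 (AllP.cons (ThV.gens 15).1 (AllP.cons (ThV.gens 3).1 (AllP.cons (ThV.gens 14).1 (AllP.cons (ThV.gens 7).1 (AllP.cons (ThV.gens 15).1 (AllP.cons (ThV.gens 3).1 (AllP.nil))))))))) pr23
theorem hM27 : ThV.X.M m25 := (MRep.M.inv hM21 iv26).1
theorem hM30 : ThV.X.M m28 := (MRep.M.inv hM24 iv29).1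
theorem hM33 : ThV.X.M m31 := MRep.M.of_prod (L := [m19, m22, m25, m28]) (AllP.cons hM21 (AllP.cons hM24 (AllP.cons hM27 (AllP.cons hM30 (AllP.nil))))) pr32
theorem hM36 : ThV.X.M m34 := (MRep.M.inv hM18 iv35).1
theorem hM39 : ThV.X.M m37 := MRep.M.of_prod (L := [m34, m19, m16, m25]) (AllP.cons hM36 (AllP.cons hM21 (AllP.cons hM18 (AllP.cons hM27 (AllP.nil))))) pr38
theorem hM42 : ThV.X.M m40 := (MRep.M.inv hM12 iv41).1
theorem hM45 : ThV.X.M m43 := MRep.M.of_prod (L := [m40, m19, m10, m25]) (AllP.cons hM42 (AllP.cons hM21 (AllP.cons hM12 (AllP.cons hM27 (AllP.nil))))) pr44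
theorem hM48 : ThV.X.M m46 := MRep.M.of_prod (L := [m1, m19, m16]) (AllP.cons hM3 (AllP.cons hM21 (AllP.cons hM18 (AllP.nil)))) pr47
theorem gT3 : ThV.X.Gens T3 (atm 10 (ThV.X.gen T3)) :=
  MRep.Gens.of_M T3ok (MRep.allM (L := [m13, m31, m22, ThV.gt, m37, m1, m43, m46, m16, m10]) (AllP.cons hM15 (AllP.cons hM33 (AllP.cons hM24 (AllP.cons (ThV.gens 12).1 (AllP.cons hM39 (AllP.cons hM3 (AllP.cons hM45 (AllP.cons hM48 (AllP.cons hM18 (AllP.cons hM12 (AllP.nil))))))))))) rfl)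
theorem T3pc1 : PC (ThV.X.gen T3) 1 3 :=
  gT3.pc (p := 3) (PC.zero _) (by decide) (by norm_num)
    (show AllP (fun j => ∃ w, PA.pcC ThV.A T3 0 j w = true) [] from AllP.nil) pp55
    (gT3.notB (by decide) (PC.zero _) pb57 (show AllP (fun j => PA.pcB ThV.A T3 m56 ThV.A_one j = true) [] from AllP.nil))
theorem T3pc2 : PC (ThV.X.gen T3) 2 9 :=
  gT3.pc (p := 3) T3pc1 (by decide) (by norm_num)
    (show AllP (fun j => ∃ w, PA.pcC ThV.A T3 1 j w = true) [0] from AllP.cons ⟨_, pc58⟩ (AllP.nil)) pp59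
    (gT3.notB (by decide) T3pc1 pb61 (show AllP (fun j => PA.pcB ThV.A T3 m60 ThV.A_one j = true) [0] from AllP.cons pb62 (AllP.nil)))
theorem T3pc3 : PC (ThV.X.gen T3) 3 27 :=
  gT3.pc (p := 3) T3pc2 (by decide) (by norm_num)
    (show AllP (fun j => ∃ w, PA.pcC ThV.A T3 2 j w = true) [0, 1] from AllP.cons ⟨_, pc63⟩ (AllP.cons ⟨_, pc64⟩ (AllP.nil))) pp65
    (gT3.notB (by decide) T3pc2 pb67 (show AllP (fun j => PA.pcB ThV.A T3 m66 ThV.A_one j = true) [0, 1] from AllP.cons pb68 (AllP.cons pb69 (AllP.nil))))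
theorem T3pc4 : PC (ThV.X.gen T3) 4 81 :=
  gT3.pc (p := 3) T3pc3 (by decide) (by norm_num)
    (show AllP (fun j => ∃ w, PA.pcC ThV.A T3 3 j w = true) [0, 1, 2] from AllP.cons ⟨_, pc70⟩ (AllP.cons ⟨_, pc71⟩ (AllP.cons ⟨_, pc72⟩ (AllP.nil)))) pp73
    (gT3.notB (by decide) T3pc3 pb75 (show AllP (fun j => PA.pcB ThV.A T3 m74 ThV.A_one j = true) [0, 1, 2] from AllP.cons pb76 (AllP.cons pb77 (AllP.cons pb78 (AllP.nil)))))
theorem T3pc5 : PC (ThV.X.gen T3) 5 243 :=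
  gT3.pc (p := 3) T3pc4 (by decide) (by norm_num)
    (show AllP (fun j => ∃ w, PA.pcC ThV.A T3 4 j w = true) [0, 1, 2, 3] from AllP.cons ⟨_, pc79⟩ (AllP.cons ⟨_, pc80⟩ (AllP.cons ⟨_, pc81⟩ (AllP.cons ⟨_, pc82⟩ (AllP.nil))))) pp83
    (gT3.notB (by decide) T3pc4 pb85 (show AllP (fun j => PA.pcB ThV.A T3 m84 ThV.A_one j = true) [0, 1, 2, 3] from AllP.cons pb86 (AllP.cons pb87 (AllP.cons pb88 (AllP.cons pb89 (AllP.nil))))))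
theorem T3pc6 : PC (ThV.X.gen T3) 6 729 :=
  gT3.pc (p := 3) T3pc5 (by decide) (by norm_num)
    (show AllP (fun j => ∃ w, PA.pcC ThV.A T3 5 j w = true) [0, 1, 2, 3, 4] from AllP.cons ⟨_, pc90⟩ (AllP.cons ⟨_, pc91⟩ (AllP.cons ⟨_, pc92⟩ (AllP.cons ⟨_, pc93⟩ (AllP.cons ⟨_, pc94⟩ (AllP.nil)))))) pp95
    (gT3.notB (by decide) T3pc5 pb97 (show AllP (fun j => PA.pcB ThV.A T3 m96 ThV.A_one j = true) [0, 1, 2, 3, 4] from AllP.cons pb98 (AllP.cons pb99 (AllP.cons pb100 (AllP.cons pb101 (AllP.cons pb102 (AllP.nil)))))))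
theorem T3pc7 : PC (ThV.X.gen T3) 7 2187 :=
  gT3.pc (p := 3) T3pc6 (by decide) (by norm_num)
    (show AllP (fun j => ∃ w, PA.pcC ThV.A T3 6 j w = true) [0, 1, 2, 3, 4, 5] from AllP.cons ⟨_, pc103⟩ (AllP.cons ⟨_, pc104⟩ (AllP.cons ⟨_, pc105⟩ (AllP.cons ⟨_, pc106⟩ (AllP.cons ⟨_, pc107⟩ (AllP.cons ⟨_, pc108⟩ (AllP.nil))))))) pp109
    (gT3.notB (by decide) T3pc6 pb111 (show AllP (fun j => PA.pcB ThV.A T3 m110 ThV.A_one j = true) [0, 1, 2, 3, 4, 5] from AllP.cons pb112 (AllP.cons pb113 (AllP.cons pb114 (AllP.cons pb115 (AllP.cons pb116 (AllP.cons pb117 (AllP.nil))))))))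
theorem T3pc8 : PC (ThV.X.gen T3) 8 6561 :=
  gT3.pc (p := 3) T3pc7 (by decide) (by norm_num)
    (show AllP (fun j => ∃ w, PA.pcC ThV.A T3 7 j w = true) [0, 1, 2, 3, 4, 5, 6] from AllP.cons ⟨_, pc118⟩ (AllP.cons ⟨_, pc119⟩ (AllP.cons ⟨_, pc120⟩ (AllP.cons ⟨_, pc121⟩ (AllP.cons ⟨_, pc122⟩ (AllP.cons ⟨_, pc123⟩ (AllP.cons ⟨_, pc124⟩ (AllP.nil)))))))) pp125
    (gT3.notB (by decide) T3pc7 pb127 (show AllP (fun j => PA.pcB ThV.A T3 m126 ThV.A_one j = true) [0, 1, 2, 3, 4, 5, 6] from AllP.cons pb128 (AllP.cons pb129 (AllP.cons pb130 (AllP.cons pb131 (AllP.cons pb132 (AllP.cons pb133 (AllP.cons pb134 (AllP.nil)))))))))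
theorem T3pc9 : PC (ThV.X.gen T3) 9 19683 :=
  gT3.pc (p := 3) T3pc8 (by decide) (by norm_num)
    (show AllP (fun j => ∃ w, PA.pcC ThV.A T3 8 j w = true) [0, 1, 2, 3, 4, 5, 6, 7] from AllP.cons ⟨_, pc135⟩ (AllP.cons ⟨_, pc136⟩ (AllP.cons ⟨_, pc137⟩ (AllP.cons ⟨_, pc138⟩ (AllP.cons ⟨_, pc139⟩ (AllP.cons ⟨_, pc140⟩ (AllP.cons ⟨_, pc141⟩ (AllP.cons ⟨_, pc142⟩ (AllP.nil))))))))) pp143
    (gT3.notB (by decide) T3pc8 pb145 (show AllP (fun j => PA.pcB ThV.A T3 m144 ThV.A_one j = true) [0, 1, 2, 3, 4, 5, 6, 7] from AllP.cons pb146 (AllP.cons pb147 (AllP.cons pb148 (AllP.cons pb149 (AllP.cons pb150 (AllP.cons pb151 (AllP.cons pb152 (AllP.cons pb153 (AllP.nil))))))))))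
theorem T3pc10 : PC (ThV.X.gen T3) 10 59049 :=
  gT3.pc (p := 3) T3pc9 (by decide) (by norm_num)
    (show AllP (fun j => ∃ w, PA.pcC ThV.A T3 9 j w = true) [0, 1, 2, 3, 4, 5, 6, 7, 8] from AllP.cons ⟨_, pc154⟩ (AllP.cons ⟨_, pc155⟩ (AllP.cons ⟨_, pc156⟩ (AllP.cons ⟨_, pc157⟩ (AllP.cons ⟨_, pc158⟩ (AllP.cons ⟨_, pc159⟩ (AllP.cons ⟨_, pc160⟩ (AllP.cons ⟨_, pc161⟩ (AllP.cons ⟨_, pc162⟩ (AllP.nil)))))))))) pp163
    (gT3.notB (by decide) T3pc9 pb165 (show AllP (fun j => PA.pcB ThV.A T3 m164 ThV.A_one j = true) [0, 1, 2, 3, 4, 5, 6, 7, 8] from AllP.cons pb166 (AllP.cons pb167 (AllP.cons pb168 (AllP.cons pb169 (AllP.cons pb170 (AllP.cons pb171 (AllP.cons pb172 (AllP.cons pb173 (AllP.cons pb174 (AllP.nil)))))))))))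
theorem lb : 59049 ∣ Nat.card ThV.H := T3pc10.dvd

end Cfsg.Agent.Spor.ThS3
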